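import Groth.Agent.Lib.DQC.Pull
import Groth.Agent.Lib.KFlat.LTensorPerfect
import Groth.Agent.Lib.KFlat.Tilde
import Groth.Agent.Lib.TensorMod.QCohTensor

/-! Derived tensor products of objects with quasi-coherent cohomology. -/

set_option autoImplicit false
set_option linter.style.haveILetI false
set_option linter.unusedSectionVars false
set_option backward.isDefEq.respectTransparency false
set_option backward.isDefEq.respectTransparency.types false

universe u

open CategoryTheory CategoryTheory.Limits AlgebraicGeometry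

namespace Groth.Agent.DQC

attribute [local instance] HasDerivedCategory.standard

open KFlat KFlat.Sch in
/-- A total tensor product of complexes of quasi-coherent modules has quasi-coherent terms. -/
theorem isQCoh_tcx_X {X : Scheme.{u}} {P Q : CochainComplex X.Modules ℤ} (hP : ∀ i, Coh.IsQCoh (P.X i))
    (hQ : ∀ i, Coh.IsQCoh (Q.X i)) (n : ℤ) : Coh.IsQCoh ((((tcx (TX X)).obj P).obj Q).X n) := by
  let G : GradedObject (ℤ × ℤ) X.Modules := fun pq => ((TX X).obj (P.X pq.1)).obj (Q.X pq.2)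
  have h := GradedObject.isColimitCofanMapObj G (fun pq : ℤ × ℤ => pq.1 + pq.2) n
  exact M1.isQCoh_of_isColimit
    (F := (Discrete.equivalence Equiv.ulift.{u}).functor ⋙ Discrete.functor (G.mapObjFun (fun pq => pq.1 + pq.2) n))
    (fun k => M2.isQCoh_tensor (hP _) (hQ _)) (h.whiskerEquivalence (Discrete.equivalence Equiv.ulift.{u}))

/-- Over an affine scheme an object with quasi-coherent cohomology is a K-flat tilde. -/
theorem exists_kflat_tilde {R : CommRingCat.{u}} {E : DCoh.D (Spec R)} (hE : DCoh.IsQCohD E) :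
    ∃ P : DRing.Cx R, KFlat.IsKFlat (KFlat.Sch.TX (Spec R)) ((DPerf.tildeX R).obj P) ∧
      Nonempty (DCoh.toD (Spec R) ((DPerf.tildeX R).obj P) ≅ E) := by
  obtain ⟨M, ⟨e⟩⟩ := exists_iso_of_isQCohD E hE
  let G := (DerivedCategory.Q (C := ModuleCat.{u} R)).objPreimage M
  let P := KFlat.resObj (KFlat.Module.cover (R := R)) G
  have := KFlat.quasiIso_resπ (KFlat.Module.cover (R := R)) G
  refine ⟨P, KFlat.Sch.isKFlat_tilde R (KFlat.isKFlat_resObj _ G KFlat.Module.isFlat_cover), ⟨?_⟩⟩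
  exact ((tilde.functor R).mapDerivedCategoryFactors.app P).symm ≪≫
    (DPerf.tildeDD R).mapIso (asIso (DerivedCategory.Q.map (KFlat.resπ (KFlat.Module.cover (R := R)) G)) ≪≫
      (DerivedCategory.Q (C := ModuleCat.{u} R)).objObjPreimageIso M) ≪≫ e

/-- Complexes of quasi-coherent modules have quasi-coherent cohomology. -/
theorem isQCohD_toD {X : Scheme.{u}} {K : CochainComplex X.Modules ℤ} (h : ∀ i, Coh.IsQCoh (K.X i)) :
    DCoh.IsQCohD (DCoh.toD X K) := fun n =>
  (SheafOfModules.isQuasicoherent X.ringCatSheaf).prop_of_iso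
    ((DerivedCategory.homologyFunctorFactors X.Modules n).app K).symm (DPerf.isQCoh_homology h n)

/-- A tilde complex has quasi-coherent terms. -/
theorem isQCoh_tildeX {R : CommRingCat.{u}} (P : DRing.Cx R) (i : ℤ) : Coh.IsQCoh (((DPerf.tildeX R).obj P).X i) :=
  (inferInstanceAs (Coh.IsQCoh (tilde (P.X i))))

/-- Quasi-coherent cohomology is tensor-stable over an affine scheme. -/
theorem isQCohD_tcx_affine {R : CommRingCat.{u}} {A B : CochainComplex (Spec R).Modules ℤ}
    (hA : KFlat.IsKFlat (KFlat.Sch.TX (Spec R)) A) (hB : KFlat.IsKFlat (KFlat.Sch.TX (Spec R)) B)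
    (hA' : DCoh.IsQCohD (DCoh.toD _ A)) (hB' : DCoh.IsQCohD (DCoh.toD _ B)) :
    DCoh.IsQCohD (DCoh.toD _ (((KFlat.tcx (KFlat.Sch.TX (Spec R))).obj A).obj B)) := by
  obtain ⟨P, hP, ⟨eP⟩⟩ := exists_kflat_tilde hA'
  obtain ⟨Q, hQ, ⟨eQ⟩⟩ := exists_kflat_tilde hB'
  obtain ⟨c⟩ := KFlat.Sch.nonempty_toD_tcx_congr hP hA hQ hB eP eQ
  refine isQCohD_of_iso c fun n => ?_
  exact isQCohD_toD (isQCoh_tcx_X (isQCoh_tildeX P) (isQCoh_tildeX Q)) n

/-- Restriction of a complex, as a pullback. -/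
noncomputable def resPullIso {X Z : Scheme.{u}} (i : Z ⟶ X) [IsOpenImmersion i] (K : CochainComplex X.Modules ℤ) :
    (DPerf.resD i).obj (DCoh.toD X K) ≅
      DCoh.toD Z (((Scheme.Modules.pullback i).mapHomologicalComplex (ComplexShape.up ℤ)).obj K) :=
  (DPerf.resFac i).app K ≪≫ DerivedCategory.Q.mapIso
    ((NatIso.mapHomologicalComplex (Scheme.Modules.restrictFunctorIsoPullback i) (ComplexShape.up ℤ)).app K)

/-- Quasi-coherent cohomology is tensor-stable on an affine chart. -/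
theorem isQCohD_resD_tcx {X : Scheme.{u}} {R : CommRingCat.{u}} (i : Spec R ⟶ X) [IsOpenImmersion i]
    {A B : CochainComplex X.Modules ℤ} (hA : KFlat.IsKFlat (KFlat.Sch.TX X) A)
    (hB : KFlat.IsKFlat (KFlat.Sch.TX X) B)
    (hA' : DCoh.IsQCohD (DCoh.toD _ A)) (hB' : DCoh.IsQCohD (DCoh.toD _ B)) :
    DCoh.IsQCohD ((DPerf.resD i).obj (DCoh.toD X (((KFlat.tcx (KFlat.Sch.TX X)).obj A).obj B))) :=
  isQCohD_of_iso (DerivedCategory.Q.mapIso (KFlat.Sch.pullTensorCxIso i A B).symm ≪≫ (resPullIso i _).symm)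
    (isQCohD_tcx_affine (KFlat.Sch.isKFlat_pullback i hA) (KFlat.Sch.isKFlat_pullback i hB)
      (isQCohD_of_iso (resPullIso i A) (isQCohD_resD i hA')) (isQCohD_of_iso (resPullIso i B) (isQCohD_resD i hB')))

-- Quasi-coherent cohomology of derived tensor products.
theorem isQCohD_lTensorCx {X : Scheme.{u}} (F : CochainComplex X.Modules ℤ)
    (hF : DCoh.IsQCohD (DCoh.toD X F)) [DCoh.HasLTensorCx F] {E : DCoh.D X} (hE : DCoh.IsQCohD E) :
    DCoh.IsQCohD ((DCoh.LTensorCx F).obj E) := by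
  obtain ⟨A, ⟨hA, -⟩, ⟨eA⟩⟩ := KFlat.Sch.exists_adapted_rep E
  obtain ⟨v⟩ := KFlat.Sch.nonempty_lTensorCxObjIso F A hA
  haveI : QuasiIso (KFlat.resπ (KFlat.Sch.cover X) F) := KFlat.quasiIso_resπ (KFlat.Sch.cover X) F
  haveI : QuasiIso (((KFlat.tcx (KFlat.Sch.TX X)).obj A).map (KFlat.resπ (KFlat.Sch.cover X) F)) :=
    ((KFlat.Sch.isKFlat_flip_iff' A).2 hA).quasiIso_map₂ _
  refine isQCohD_of_iso (asIso (DerivedCategory.Q.map (((KFlat.tcx (KFlat.Sch.TX X)).obj A).map
    (KFlat.resπ (KFlat.Sch.cover X) F))) ≪≫ v.symm ≪≫ (DCoh.LTensorCx F).mapIso eA) ?_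
  exact isQCohD_of_cover fun x => ⟨_, X.affineCover.f (X.affineCover.idx x), inferInstance,
    X.affineCover.covers x, isQCohD_resD_tcx _ hA (KFlat.Sch.isAdapted_resObj F).1
      (isQCohD_of_iso eA.symm hE)
      (isQCohD_of_iso (asIso (DerivedCategory.Q.map (KFlat.resπ (KFlat.Sch.cover X) F))).symm hF)⟩

end Groth.Agent.DQC
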