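import Groth.Agent.Lib.KInj.Derived
import Groth.Agent.Lib.KInj.Basic
import Groth.Agent.Lib.SiteRlim16.Local
import Groth.Agent.Lib.SiteCmp16.WayOut

/-! An exact left adjoint on derived categories, against K-injective complexes; classes and exact functors. -/

set_option autoImplicit false
set_option linter.style.haveILetI false
set_option linter.unusedSectionVars false
set_option backward.isDefEq.respectTransparency false
set_option backward.isDefEq.respectTransparency.types false

universe w w' v v' u u'

open CategoryTheory CategoryTheory.Limits DerivedCategory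

namespace Groth.Agent.DQC

variable {A : Type u} [Category.{v} A] [Abelian A] [HasDerivedCategory.{w} A]
  {B : Type u'} [Category.{v'} B] [Abelian B] [HasDerivedCategory.{w'} B]
  (F : A ⥤ B) [F.Additive] [PreservesFiniteLimits F] [PreservesFiniteColimits F]

section Adj

variable {G : B ⥤ A} [G.Additive] (adj : F ⊣ G) (I : CochainComplex B ℤ)

/-- The right adjoint, termwise. -/
noncomputable abbrev rightX : CochainComplex A ℤ := (G.mapHomologicalComplex (ComplexShape.up ℤ)).obj I

/-- The termwise counit. -/
noncomputable def counitX : (F.mapHomologicalComplex (ComplexShape.up ℤ)).obj (rightX (G := G) I) ⟶ I where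
  f n := adj.counit.app (I.X n)
  comm' i j _ := (adj.counit.naturality (I.d i j)).symm

/-- The counit in the derived category. -/
noncomputable def epsD : F.mapDerivedCategory.obj (Q.obj (rightX (G := G) I)) ⟶ Q.obj I :=
  F.mapDerivedCategoryFactors.hom.app _ ≫ Q.map (counitX F adj I)

/-- The transpose of a map of complexes. -/
noncomputable def transposeX {K : CochainComplex A ℤ}
    (φ : (F.mapHomologicalComplex (ComplexShape.up ℤ)).obj K ⟶ I) : K ⟶ rightX (G := G) I where
  f n := adj.homEquiv _ _ (φ.f n)
  comm' i j _ := by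
    change adj.homEquiv _ _ (φ.f i) ≫ G.map (I.d i j) = K.d i j ≫ adj.homEquiv _ _ (φ.f j)
    rw [← adj.homEquiv_naturality_right, ← adj.homEquiv_naturality_left]
    exact congrArg _ (φ.comm i j)

theorem map_transposeX {K : CochainComplex A ℤ}
    (φ : (F.mapHomologicalComplex (ComplexShape.up ℤ)).obj K ⟶ I) :
    (F.mapHomologicalComplex (ComplexShape.up ℤ)).map (transposeX F adj I φ) ≫ counitX F adj I = φ :=
  HomologicalComplex.hom_ext _ _ fun n => by
    change F.map (adj.homEquiv _ _ (φ.f n)) ≫ adj.counit.app (I.X n) = φ.f n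
    exact (adj.homEquiv_counit _ _ _).symm.trans (Equiv.symm_apply_apply _ (φ.f n))

theorem bijective_adjD_Q [I.IsKInjective] (K : CochainComplex A ℤ) :
    Function.Bijective fun h : Q.obj K ⟶ Q.obj (rightX (G := G) I) =>
      F.mapDerivedCategory.map h ≫ epsD F adj I := by
  haveI := KInjLib.isKInjective_of_adj G F adj I
  have key : ∀ ψ : K ⟶ rightX (G := G) I, F.mapDerivedCategory.map (Q.map ψ) ≫ epsD F adj I =
      F.mapDerivedCategoryFactors.hom.app K ≫
        Q.map ((F.mapHomologicalComplex (ComplexShape.up ℤ)).map ψ ≫ counitX F adj I) := fun ψ => by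
    rw [epsD, Functor.mapDerivedCategoryFactors_hom_naturality_assoc, Functor.map_comp]
  refine ⟨fun h₁ h₂ hh => ?_, fun f => ?_⟩
  · obtain ⟨ψ₁, rfl⟩ := KInjLib.exists_map_eq h₁
    obtain ⟨ψ₂, rfl⟩ := KInjLib.exists_map_eq h₂
    simp only [key] at hh
    obtain ⟨H⟩ := (KInjLib.map_eq_iff _ _).1 ((cancel_epi _).1 hh)
    refine (KInjLib.map_eq_iff _ _).2 ⟨?_⟩
    let η : K ⟶ rightX (G := G) ((F.mapHomologicalComplex (ComplexShape.up ℤ)).obj K) :=
      { f := fun n => adj.unit.app (K.X n)
        comm' := fun i j _ => (adj.unit.naturality (K.d i j)).symm }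
    have hη : ∀ ψ : K ⟶ rightX (G := G) I, η ≫ (G.mapHomologicalComplex (ComplexShape.up ℤ)).map
        ((F.mapHomologicalComplex (ComplexShape.up ℤ)).map ψ ≫ counitX F adj I) = ψ :=
      fun ψ => HomologicalComplex.hom_ext _ _ fun n => by
        change adj.unit.app (K.X n) ≫ G.map (F.map (ψ.f n) ≫ adj.counit.app (I.X n)) = ψ.f n
        exact (adj.homEquiv_unit _ _ _).symm.trans ((congrArg _ (adj.homEquiv_counit _ _ _).symm).trans
          (Equiv.apply_symm_apply _ (ψ.f n)))
    exact ((Homotopy.ofEq (hη ψ₁).symm).trans ((G.mapHomotopy H).compLeft η)).trans (Homotopy.ofEq (hη ψ₂))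
  · obtain ⟨φ, hφ⟩ := KInjLib.exists_map_eq ((F.mapDerivedCategoryFactors.app K).inv ≫ f)
    refine ⟨Q.map (transposeX F adj I φ), ?_⟩
    change F.mapDerivedCategory.map (Q.map (transposeX F adj I φ)) ≫ epsD F adj I = f
    rw [key, map_transposeX, hφ]
    exact (F.mapDerivedCategoryFactors.app K).hom_inv_id_assoc f

/-- Maps into the right adjoint of a K-injective complex are maps out of the image. -/
theorem bijective_adjD [I.IsKInjective] (N : DerivedCategory A) :
    Function.Bijective fun h : N ⟶ Q.obj (rightX (G := G) I) => F.mapDerivedCategory.map h ≫ epsD F adj I := by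
  let e : Q.obj (Q.objPreimage N) ≅ N := Q.objObjPreimageIso N
  have h1 := (Iso.homCongr e.symm (Iso.refl (Q.obj (rightX (G := G) I)))).bijective
  have h2 := (Iso.homCongr (F.mapDerivedCategory.mapIso e) (Iso.refl (Q.obj I))).bijective
  convert h2.comp ((bijective_adjD_Q F adj I (Q.objPreimage N)).comp h1) using 1
  funext h
  simp [Iso.homCongr]

end Adj

local notation "SA" => DerivedCategory.singleFunctor A
local notation "SB" => DerivedCategory.singleFunctor B

/-- If classes are sections on both sides, a fully faithful exact functor is bijective on classes. -/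
theorem bijective_map_single [F.Full] [F.Faithful] (X : A) (m : ℤ) (M : DerivedCategory A)
    (hA : Function.Bijective (SiteRlim.θ : ((SA m).obj X ⟶ M) → _))
    (hB : Function.Bijective (SiteRlim.θ : ((SB m).obj (F.obj X) ⟶ F.mapDerivedCategory.obj M) → _)) :
    Function.Bijective fun f : (SA m).obj X ⟶ M => F.mapDerivedCategory.map f := by
  let σ : (SB m).obj (F.obj X) ≅ F.mapDerivedCategory.obj ((SA m).obj X) :=
    ((F.mapDerivedCategorySingleFunctor m).app X).symm
  let κ := WayOut.mapDerivedHomologyIso F m
  let a : X ≅ (DerivedCategory.homologyFunctor A m).obj ((SA m).obj X) :=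
    ((DerivedCategory.singleFunctorCompHomologyFunctorIso A m).app X).symm
  let b : F.obj X ≅ (DerivedCategory.homologyFunctor B m).obj ((SB m).obj (F.obj X)) :=
    ((DerivedCategory.singleFunctorCompHomologyFunctorIso B m).app (F.obj X)).symm
  let j : F.obj X ≅ F.obj X := b ≪≫ (DerivedCategory.homologyFunctor B m).mapIso σ ≪≫ κ.app _ ≪≫ F.mapIso a.symm
  let T : (F.obj X ⟶ F.obj ((DerivedCategory.homologyFunctor A m).obj M)) ≃
      (F.obj X ⟶ (DerivedCategory.homologyFunctor B m).obj (F.mapDerivedCategory.obj M)) :=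
    Iso.homCongr j.symm (κ.app M).symm
  have key : (fun f : (SA m).obj X ⟶ M => SiteRlim.θ (σ.hom ≫ F.mapDerivedCategory.map f)) =
      T ∘ (fun s => F.map s) ∘ (SiteRlim.θ : ((SA m).obj X ⟶ M) → _) := by
    funext f
    have n : κ.hom.app ((SA m).obj X) ≫ F.map ((DerivedCategory.homologyFunctor A m).map f) ≫ κ.inv.app M =
        (DerivedCategory.homologyFunctor B m).map (F.mapDerivedCategory.map f) := by
      rw [← Category.assoc]
      exact (Iso.comp_inv_eq (κ.app M)).2 (κ.hom.naturality f).symm
    change b.hom ≫ (DerivedCategory.homologyFunctor B m).map (σ.hom ≫ F.mapDerivedCategory.map f) =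
      j.hom ≫ F.map (a.hom ≫ (DerivedCategory.homologyFunctor A m).map f) ≫ κ.inv.app M
    simp only [j, Iso.trans_hom, Functor.mapIso_hom, Iso.symm_hom, Iso.app_hom, Category.assoc, Functor.map_comp,
      ← n]
    congr 3
    rw [← F.map_comp_assoc, a.inv_hom_id, F.map_id, Category.id_comp]
  have h1 : Function.Bijective (fun f : (SA m).obj X ⟶ M => SiteRlim.θ (σ.hom ≫ F.mapDerivedCategory.map f)) := by
    rw [key]
    exact T.bijective.comp (((Functor.FullyFaithful.ofFullyFaithful F).map_bijective _ _).comp hA)
  have h2 : Function.Bijective (fun g : F.mapDerivedCategory.obj ((SA m).obj X) ⟶ F.mapDerivedCategory.obj M =>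
      SiteRlim.θ (σ.hom ≫ g)) := hB.comp (Iso.homCongr σ.symm (Iso.refl _)).bijective |> fun h => by
    convert h using 1
    funext g
    simp [Iso.homCongr]
  exact (Function.Bijective.of_comp_iff' h2 _).1 h1

end Groth.Agent.DQC
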