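import Groth.Agent.Lib.SiteRlim16.Acyclic
import Groth.Agent.Lib.DMod.Basic

/-! Classes out of a projective object are sections of cohomology. -/

set_option autoImplicit false
set_option linter.style.haveILetI false
set_option linter.unusedSectionVars false
set_option backward.isDefEq.respectTransparency false
set_option backward.isDefEq.respectTransparency.types false

universe w u v

open CategoryTheory CategoryTheory.Limits CategoryTheory.Pretriangulated CategoryTheory.Triangulated
open DerivedCategory.TStructure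

namespace Groth.Agent.DQC

section General

variable {A : Type (u + 1)} [Category.{u} A] [Abelian A] [HasDerivedCategory.{w} A]

local notation "SF" => DerivedCategory.singleFunctor A
local notation "HH" => DerivedCategory.homologyFunctor A

/-- An object without classes in lower cohomology: classes are sections. -/
theorem bijective_θ_of_orth (X : A) (m : ℤ) (P : DerivedCategory A)
    (h : ∀ Y : DerivedCategory A, Y.IsLE (m - 1) → ∀ j, (j = m ∨ j = m + 1) → Subsingleton ((SF j).obj X ⟶ Y)) :
    Function.Bijective (SiteRlim.θ : ((SF m).obj X ⟶ P) → _) := by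
  haveI : DerivedCategory.IsLE ((SF m).obj X) m := inferInstance
  haveI : DerivedCategory.IsLE ((t.truncLT (m + 1)).obj P) m := t.isLE_truncLT_obj P (m + 1) m (by lia)
  let Q := (t.truncLT (m + 1)).obj P
  haveI : DerivedCategory.IsGE ((t.truncGE m).obj Q) m := (inferInstance : t.IsGE ((t.truncGE m).obj Q) m)
  haveI : DerivedCategory.IsLE ((t.truncGE m).obj Q) m := (inferInstance : t.IsLE ((t.truncGE m).obj Q) m)
  haveI := DerTrunc.isIso_homology_truncLTι P (m + 1) m (by lia)
  haveI := DerTrunc.isIso_homology_truncGEπ Q m m le_rfl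
  have hlow : ∀ j, (j = m ∨ j = m + 1) → Subsingleton ((SF j).obj X ⟶ (t.truncLT m).obj Q) := fun j hj =>
    h _ (inferInstance : t.IsLE ((t.truncLT m).obj Q) (m - 1)) j hj
  haveI hlow₁ : Subsingleton ((SF m).obj X ⟶ ((t.truncLT m).obj Q)⟦(1 : ℤ)⟧) := by
    have := hlow (m + 1) (Or.inr rfl)
    let e := ((DerivedCategory.singleFunctors A).shiftIso (1 : ℤ) m (m + 1) (by lia)).app X
    refine ⟨fun x y => ?_⟩
    obtain ⟨x', hx'⟩ := (shiftFunctor (DerivedCategory A) (1 : ℤ)).map_surjective (e.hom ≫ x)
    obtain ⟨y', hy'⟩ := (shiftFunctor (DerivedCategory A) (1 : ℤ)).map_surjective (e.hom ≫ y)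
    rw [← cancel_epi e.hom, ← hx', ← hy', Subsingleton.elim x' y']
  constructor
  · refine (injective_iff_map_eq_zero (AddMonoidHom.mk' SiteRlim.θ SiteRlim.θ_add)).2 fun f hf => ?_
    change SiteRlim.θ f = 0 at hf
    obtain ⟨f', rfl⟩ : ∃ f', f' ≫ (t.truncLTι (m + 1)).app P = f :=
      ⟨t.liftTruncLT f m (m + 1) rfl, t.liftTruncLT_ι f m (m + 1) rfl⟩
    suffices f' = 0 by rw [this, zero_comp]
    rw [SiteRlim.θ_comp] at hf
    have hf' : SiteRlim.θ f' = 0 :=
      (cancel_mono ((HH m).map ((t.truncLTι (m + 1)).app P))).1 (by rw [hf, zero_comp])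
    have h0 : f' ≫ (t.truncGEπ m).app Q = 0 := DerTrunc.hom_eq_zero_of_isLE_of_isGE m _ (by
      rw [Functor.map_comp, (SiteRlim.θ_eq_zero_iff f').1 hf', zero_comp])
    obtain ⟨g, hg⟩ := Triangle.coyoneda_exact₂ _ (t.triangleLTGE_distinguished m Q) f' h0
    have hg0 : g = 0 := (hlow m (Or.inl rfl)).elim _ _
    rw [hg, hg0]
    exact zero_comp
  · intro s
    obtain ⟨u, hu⟩ := SiteRlim.exists_θ_eq_of_concentrated (K := (t.truncGE m).obj Q)
      (s ≫ inv ((HH m).map ((t.truncLTι (m + 1)).app P)) ≫ (HH m).map ((t.truncGEπ m).app Q))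
    obtain ⟨v, hv⟩ := Triangle.coyoneda_exact₃ _ (t.triangleLTGE_distinguished m Q) u (hlow₁.elim _ _)
    refine ⟨v ≫ (t.truncLTι (m + 1)).app P, ?_⟩
    have h2 : SiteRlim.θ v ≫ (HH m).map ((t.truncGEπ m).app Q) = SiteRlim.θ u := by
      rw [← SiteRlim.θ_comp]
      exact congrArg SiteRlim.θ hv.symm
    rw [hu, ← Category.assoc, cancel_mono] at h2
    rw [SiteRlim.θ_comp, h2]
    simp

end General

section Module

attribute [local instance] HasDerivedCategory.standard

variable {R : CommRingCat.{u}}

/-- In the derived category of modules, classes out of a projective module are elements of cohomology. -/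
theorem bijective_θ_projective (P : ModuleCat.{u} R) [Module.Projective R P] (m : ℤ)
    (E : DerivedCategory (ModuleCat.{u} R)) :
    Function.Bijective (SiteRlim.θ :
      ((DerivedCategory.singleFunctor (ModuleCat.{u} R) m).obj P ⟶ E) → _) := by
  refine bijective_θ_of_orth P m E fun Y hY j hj => ?_
  let K : DRing.Cx R := (HomologicalComplex.single (ModuleCat.{u} R) (ComplexShape.up ℤ) j).obj P
  have hproj : ∀ i, Module.Projective R (K.X i) := fun i => by
    by_cases hi : i = j
    · subst hi
      exact Module.Projective.of_equiv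
        (HomologicalComplex.singleObjXSelf (ComplexShape.up ℤ) i P).symm.toLinearEquiv
    · haveI := ModuleCat.subsingleton_of_isZero
        (HomologicalComplex.isZero_single_obj_X (ComplexShape.up ℤ) j P i hi)
      infer_instance
  haveI : K.IsStrictlyLE j := inferInstanceAs
    (CochainComplex.IsStrictlyLE ((HomologicalComplex.single (ModuleCat.{u} R) (ComplexShape.up ℤ) j).obj P) j)
  haveI : K.IsStrictlyGE j := inferInstanceAs
    (CochainComplex.IsStrictlyGE ((HomologicalComplex.single (ModuleCat.{u} R) (ComplexShape.up ℤ) j).obj P) j)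
  haveI : K.IsKProjective := DMod.isKProjective j hproj
  haveI := hY
  let e : (DerivedCategory.singleFunctor (ModuleCat.{u} R) j).obj P ≅ DRing.toD K :=
    (DerivedCategory.singleFunctorIsoCompQ (ModuleCat.{u} R) j).app P
  refine ⟨fun x y => ?_⟩
  rw [← cancel_epi e.inv]
  exact (DMod.hom_eq_zero j (m - 1) (by omega) (e.inv ≫ x)).trans
    (DMod.hom_eq_zero j (m - 1) (by omega) (e.inv ≫ y)).symm

end Module

end Groth.Agent.DQC
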