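import Groth.Agent.Lib.DQC.Classes
import Groth.Agent.Lib.DQC.Proj
import Groth.Agent.Lib.DQC.ExactAdj
import Groth.Agent.Lib.DPerf.Tilde

/-! `D(R)` is the full subcategory of `D(O_{Spec R})` on the objects with quasi-coherent cohomology. -/

set_option autoImplicit false
set_option linter.style.haveILetI false
set_option linter.unusedSectionVars false
set_option backward.isDefEq.respectTransparency false
set_option backward.isDefEq.respectTransparency.types false

universe u

open CategoryTheory CategoryTheory.Limits AlgebraicGeometry Opposite TopologicalSpace DerivedCategory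

namespace Groth.Agent.DQC

attribute [local instance] HasDerivedCategory.standard

variable {R : CommRingCat.{u}}

/-- Objects with equal covariant functors are isomorphic. -/
noncomputable def isoOfHomEquiv {C : Type*} [Category C] {P Q : C} (h : ∀ M, (P ⟶ M) ≃ (Q ⟶ M))
    (hn : ∀ {M N : C} (a : P ⟶ M) (b : M ⟶ N), h N (a ≫ b) = h M a ≫ b) : Q ≅ P where
  hom := h P (𝟙 P)
  inv := (h Q).symm (𝟙 Q)
  hom_inv_id := by rw [← hn, Category.id_comp, Equiv.apply_symm_apply]
  inv_hom_id := (h P).injective (by rw [hn, Equiv.apply_symm_apply, Category.id_comp])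

instance additive_Γ : (moduleSpecΓFunctor (R := R)).Additive := (tilde.adjunction (R := R)).right_adjoint_additive

/-- The structure sheaf of `Spec R` as a tilde. -/
noncomputable abbrev tildeOne (R : CommRingCat.{u}) : (Spec R).Modules :=
  (tilde.functor R).obj (ModuleCat.of R R)

/-- Maps out of the structure sheaf are global sections. -/
noncomputable def homTildeOne (M : (Spec R).Modules) : (tildeOne R ⟶ M) ≃ Γ(M, ⊤) :=
  ((tilde.adjunction (R := R)).homEquiv _ M).trans
    ((ModuleCat.homLinearEquiv (S := R)).toEquiv.trans (LinearMap.ringLmapEquivSelf R R _).toEquiv)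

theorem homTildeOne_comp {M N : (Spec R).Modules} (f : tildeOne R ⟶ M) (g : M ⟶ N) :
    homTildeOne N (f ≫ g) = g.app ⊤ (homTildeOne M f) := by
  simp only [homTildeOne, Equiv.trans_apply]
  rw [Adjunction.homEquiv_naturality_right]
  rfl

/-- The generator on all of `Spec R` is the structure sheaf. -/
noncomputable def genTopIso (R : CommRingCat.{u}) : (gen (Spec R)).obj ⊤ ≅ tildeOne R :=
  isoOfHomEquiv (fun M => (homTildeOne M).trans (genHom ⊤ M).symm) fun {M N} a b => by
    apply (genHom ⊤ N).injective
    simp only [Equiv.trans_apply, Equiv.apply_symm_apply]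
    rw [genHom_comp, Equiv.apply_symm_apply, homTildeOne_comp]

/-- A map of modules is an isomorphism if it is bijective on elements, read off maps out of `R`. -/
theorem isIso_of_bijective_homOne {M N : ModuleCat.{u} R} (φ : M ⟶ N)
    (h : Function.Bijective fun s : ModuleCat.of R R ⟶ M => s ≫ φ) : IsIso φ := by
  rw [ConcreteCategory.isIso_iff_bijective]
  let ev : ∀ K : ModuleCat.{u} R, (ModuleCat.of R R ⟶ K) ≃ K := fun K =>
    (ModuleCat.homLinearEquiv (S := R)).toEquiv.trans (LinearMap.ringLmapEquivSelf R R _).toEquiv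
  have : (φ : M → N) ∘ ev M = ev N ∘ fun s => s ≫ φ := rfl
  exact (Function.Bijective.of_comp_iff _ (ev M).bijective).1 (this ▸ (ev N).bijective.comp h)

/-- A map of quasi-coherent modules on `Spec R` bijective on global sections is an isomorphism. -/
theorem isIso_of_bijective_tildeOne {M N : (Spec R).Modules} (hM : Coh.IsQCoh M) (hN : Coh.IsQCoh N) (φ : M ⟶ N)
    (h : Function.Bijective fun s : tildeOne R ⟶ M => s ≫ φ) : IsIso φ := by
  haveI : M.IsQuasicoherent := hM
  haveI : N.IsQuasicoherent := hN
  let adj := tilde.adjunction (R := R)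
  haveI : IsIso (moduleSpecΓFunctor.map φ) := isIso_of_bijective_homOne _ (by
    have e : ∀ s, adj.homEquiv (ModuleCat.of R R) N (s ≫ φ) =
        adj.homEquiv (ModuleCat.of R R) M s ≫ moduleSpecΓFunctor.map φ :=
      fun s => adj.homEquiv_naturality_right s φ
    refine ⟨fun a b hab => ?_, fun t => ?_⟩
    · obtain ⟨a, rfl⟩ := (adj.homEquiv (ModuleCat.of R R) M).surjective a
      obtain ⟨b, rfl⟩ := (adj.homEquiv (ModuleCat.of R R) M).surjective b
      have := h.1 ((adj.homEquiv (ModuleCat.of R R) N).injective ((e a).trans (hab.trans (e b).symm)))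
      rw [this]
    · obtain ⟨t, rfl⟩ := (adj.homEquiv (ModuleCat.of R R) N).surjective t
      obtain ⟨s, hs⟩ := h.2 t
      exact ⟨adj.homEquiv _ _ s, (e s).symm.trans (congrArg _ hs)⟩)
  haveI : IsIso M.fromTildeΓ := Scheme.Modules.isIso_fromTildeΓ_of_isQuasicoherent (R := R) M
  haveI : IsIso N.fromTildeΓ := Scheme.Modules.isIso_fromTildeΓ_of_isQuasicoherent (R := R) N
  have n : (tilde.functor R).map (moduleSpecΓFunctor.map φ) ≫ N.fromTildeΓ = M.fromTildeΓ ≫ φ :=
    adj.counit.naturality φ
  haveI : IsIso (M.fromTildeΓ ≫ φ) := n ▸ inferInstance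
  exact IsIso.of_isIso_comp_left M.fromTildeΓ φ

variable [PreservesFiniteLimits (tilde.functor R)]

theorem isQCohD_obj (M : DerivedCategory (ModuleCat.{u} R)) : DCoh.IsQCohD (X := Spec R) ((DPerf.tildeDD R).obj M) := fun i =>
  (SheafOfModules.isQuasicoherent (Spec R).ringCatSheaf).prop_of_iso (DPerf.hdTildeIso M i).symm
    (inferInstanceAs (Coh.IsQCoh (tilde ((DerivedCategory.homologyFunctor (ModuleCat.{u} R) i).obj M))))

/-- Classes out of the structure sheaf are global sections of cohomology. -/
theorem bijective_θ_tildeOne (E : DCoh.D (Spec R)) (hE : DCoh.IsQCohD E) (m : ℤ) :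
    Function.Bijective (SiteRlim.θ :
      ((DerivedCategory.singleFunctor (Spec R).Modules m).obj (tildeOne R) ⟶ E) → _) := by
  let e := genTopIso R
  have h := bijective_θ E hE (isAffineOpen_top (Spec R)) m
  have h1 := (Iso.homCongr ((DerivedCategory.singleFunctor (Spec R).Modules m).mapIso e.symm) (Iso.refl E)).bijective
  have h2 := (Iso.homCongr e (Iso.refl ((DerivedCategory.homologyFunctor (Spec R).Modules m).obj E))).bijective
  convert h2.comp (h.comp h1) using 1
  funext f
  simp [Iso.homCongr, SiteRlim.θ_pre]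

/-- `tilde` is bijective on classes out of `R`. -/
theorem bijective_map_one (M : DerivedCategory (ModuleCat.{u} R)) (m : ℤ) :
    Function.Bijective fun f : (DerivedCategory.singleFunctor (ModuleCat.{u} R) m).obj (ModuleCat.of R R) ⟶ M =>
      (DPerf.tildeDD R).map f :=
  bijective_map_single (tilde.functor R) (ModuleCat.of R R) m M (bijective_θ_projective _ m M)
    (bijective_θ_tildeOne _ (isQCohD_obj M) m)

/-- `tilde` is fully faithful on derived categories. -/
theorem bijective_map (N M : DerivedCategory (ModuleCat.{u} R)) :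
    Function.Bijective fun f : N ⟶ M => (DPerf.tildeDD R).map f := by
  obtain ⟨I, hI, ⟨e⟩⟩ := KInjLib.exists_iso_kInjective ((DPerf.tildeDD R).obj M)
  let adj := tilde.adjunction (R := R)
  have hΦ := bijective_adjD (tilde.functor R) adj I
  obtain ⟨g, hg⟩ := (hΦ M).2 e.hom
  have key : ∀ N' : DerivedCategory (ModuleCat.{u} R),
      (fun h => (DPerf.tildeDD R).map h ≫ epsD (tilde.functor R) adj I) ∘ (fun f : N' ⟶ M => f ≫ g) =
        (Iso.homCongr (Iso.refl _) e) ∘ fun f => (DPerf.tildeDD R).map f := fun N' => by
    funext f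
    simp only [Function.comp_apply, Functor.map_comp, Category.assoc, Iso.homCongr, Iso.refl_inv, Category.id_comp,
      Equiv.coe_fn_mk]
    rw [show (DPerf.tildeDD R).map g ≫ epsD (tilde.functor R) adj I = e.hom from hg]
  haveI : IsIso g := by
    rw [DerivedCategory.isIso_iff]
    intro m
    let P := ModuleCat.of R R
    have h1 : Function.Bijective fun f : (DerivedCategory.singleFunctor (ModuleCat.{u} R) m).obj P ⟶ M => f ≫ g :=
      (Function.Bijective.of_comp_iff' (hΦ _) _).1 (key _ ▸ (Equiv.bijective _).comp (bijective_map_one M m))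
    refine isIso_of_bijective_homOne _ ?_
    have hθ : (fun s => s ≫ (DerivedCategory.homologyFunctor (ModuleCat.{u} R) m).map g) ∘
        (SiteRlim.θ : ((DerivedCategory.singleFunctor (ModuleCat.{u} R) m).obj P ⟶ M) → _) =
          SiteRlim.θ ∘ fun f => f ≫ g := funext fun f => (SiteRlim.θ_comp f g).symm
    exact (Function.Bijective.of_comp_iff _ (bijective_θ_projective P m M)).1
      (hθ ▸ (bijective_θ_projective P m _).comp h1)
  have hg' : Function.Bijective fun f : N ⟶ M => f ≫ g :=
    (asIso g).homToEquiv.bijective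
  have := (hΦ N).comp hg'
  rw [key N] at this
  exact (Function.Bijective.of_comp_iff' (Equiv.bijective _) _).1 this

/-- An object with quasi-coherent cohomology comes from `D(R)`. -/
theorem exists_iso_of_isQCohD (K : DCoh.D (Spec R)) (hK : DCoh.IsQCohD K) :
    ∃ M, Nonempty ((DPerf.tildeDD R).obj M ≅ K) := by
  obtain ⟨I, hI, ⟨e⟩⟩ := KInjLib.exists_iso_kInjective K
  let adj := tilde.adjunction (R := R)
  let M := DerivedCategory.Q.obj (rightX (G := moduleSpecΓFunctor (R := R)) I)
  have hQ : DCoh.IsQCohD (X := Spec R) (DerivedCategory.Q.obj I) := fun i =>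
    (SheafOfModules.isQuasicoherent (Spec R).ringCatSheaf).prop_of_iso
      ((DerivedCategory.homologyFunctor _ i).mapIso e) (hK i)
  have hΦ := bijective_adjD (tilde.functor R) adj I
  let ε := epsD (tilde.functor R) adj I
  haveI : IsIso ε := by
    rw [DerivedCategory.isIso_iff]
    intro m
    refine isIso_of_bijective_tildeOne (isQCohD_obj M m) (hQ m) _ ?_
    let P := ModuleCat.of R R
    let σ : (DerivedCategory.singleFunctor (Spec R).Modules m).obj (tildeOne R) ≅
        (DPerf.tildeDD R).obj ((DerivedCategory.singleFunctor (ModuleCat.{u} R) m).obj P) :=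
      (((tilde.functor R).mapDerivedCategorySingleFunctor m).app P).symm
    have h1 : Function.Bijective fun f : (DPerf.tildeDD R).obj ((DerivedCategory.singleFunctor (ModuleCat.{u} R) m).obj P) ⟶
        (DPerf.tildeDD R).obj M => f ≫ ε :=
      (Function.Bijective.of_comp_iff _ (bijective_map_one M m)).1 (hΦ _)
    have h2 : Function.Bijective fun f : (DerivedCategory.singleFunctor (Spec R).Modules m).obj (tildeOne R) ⟶
        (DPerf.tildeDD R).obj M => f ≫ ε := by
      convert (Iso.homCongr σ.symm (Iso.refl _)).bijective.comp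
        (h1.comp (Iso.homCongr σ (Iso.refl _)).bijective) using 1
      funext f
      simp [Iso.homCongr]
    have hθ : (fun s => s ≫ (DerivedCategory.homologyFunctor (Spec R).Modules m).map ε) ∘
        (SiteRlim.θ : ((DerivedCategory.singleFunctor (Spec R).Modules m).obj (tildeOne R) ⟶ (DPerf.tildeDD R).obj M) → _) =
          SiteRlim.θ ∘ fun f => f ≫ ε := funext fun f => (SiteRlim.θ_comp f ε).symm
    exact (Function.Bijective.of_comp_iff _ (bijective_θ_tildeOne _ (isQCohD_obj M) m)).1
      (hθ ▸ (bijective_θ_tildeOne _ hQ m).comp h2)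
  exact ⟨M, ⟨asIso ε ≪≫ e.symm⟩⟩

end Groth.Agent.DQC
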