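import Groth.Agent.Lib.DQC.Affine
import Groth.Agent.Lib.DPerf.Top
import Groth.Agent.Lib.DPerf.Betti
import Groth.Agent.Lib.KFlat.LpullTilde
import Groth.Agent.Lib.KFlat.LpullComp
import Groth.Agent.Lib.ModM1.Local
import Groth.Agent.Lib.ModM1.Affine

/-! Quasi-coherent cohomology is local and stable under derived pullback. -/

set_option autoImplicit false
set_option linter.style.haveILetI false
set_option linter.unusedSectionVars false
set_option backward.isDefEq.respectTransparency false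
set_option backward.isDefEq.respectTransparency.types false

universe u

open CategoryTheory CategoryTheory.Limits AlgebraicGeometry

namespace Groth.Agent.DQC

attribute [local instance] HasDerivedCategory.standard

variable {X Y : Scheme.{u}}

theorem isQCohD_of_iso {K L : DCoh.D X} (e : K ≅ L) (h : DCoh.IsQCohD K) : DCoh.IsQCohD L := fun i =>
  (SheafOfModules.isQuasicoherent X.ringCatSheaf).prop_of_iso
    ((DerivedCategory.homologyFunctor X.Modules i).mapIso e) (h i)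

theorem isQCohD_resD (j : Y ⟶ X) [IsOpenImmersion j] {K : DCoh.D X} (h : DCoh.IsQCohD K) :
    DCoh.IsQCohD ((DPerf.resD j).obj K) := fun i =>
  (SheafOfModules.isQuasicoherent Y.ringCatSheaf).prop_of_iso (DPerf.hdResIso j K i).symm
    (M1.isQCoh_restrict (h i) j)

/-- Quasi-coherence of cohomology is local. -/
theorem isQCohD_of_cover {K : DCoh.D X} (h : ∀ x : X, ∃ (Z : Scheme.{u}) (j : Z ⟶ X) (_ : IsOpenImmersion j),
    x ∈ Set.range j ∧ DCoh.IsQCohD ((DPerf.resD j).obj K)) : DCoh.IsQCohD K := fun i => by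
  choose Z j hj hx hK using h
  exact M1.isQCoh_of_openImmersion_cover (j := j) (fun x => ⟨x, (hx x).choose, (hx x).choose_spec⟩)
    fun x => (SheafOfModules.isQuasicoherent (Z x).ringCatSheaf).prop_of_iso (DPerf.hdResIso (j x) K i) (hK x i)

theorem hasLBaseChange {A B : Type u} [CommRing A] [CommRing B] (φ : A →+* B) : DRing.HasLBaseChange φ :=
  KFlat.hasLeftDerivedFunctor_mapHomotopyCategory (KFlat.Module.cover (R := A)) (ModuleCat.extendScalars φ)
    (fun K => KFlat.IsKFlat (KFlat.Module.TM A) K) (fun K => KFlat.isKFlat_resObj _ K KFlat.Module.isFlat_cover)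
    fun g _ hK hK' => KFlat.Module.quasiIso_extendScalars_map φ g hK hK'

/-- Between affine schemes the derived pullback is derived base change. -/
theorem exists_lpull_tilde_iso {A B : CommRingCat.{u}} (φ : A ⟶ B) [DCoh.HasLpull (Spec.map φ)]
    (M : DerivedCategory (ModuleCat.{u} A)) : ∃ N : DerivedCategory (ModuleCat.{u} B),
      Nonempty ((DPerf.tildeDD B).obj N ≅ (DCoh.Lpull (Spec.map φ)).obj ((DPerf.tildeDD A).obj M)) := by
  haveI := hasLBaseChange φ.hom
  exact ⟨(DRing.LBaseChange φ.hom).obj M, ⟨(KFlat.Sch.lpullTildeIso φ).app M⟩⟩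

/-- A derived pullback, read on affine charts. -/
theorem nonempty_chart_iso (f : Y ⟶ X) [DCoh.HasLpull f] {V W : Scheme.{u}} (i : V ⟶ X) [IsOpenImmersion i]
    (k : W ⟶ Y) [IsOpenImmersion k] (g : W ⟶ V) [DCoh.HasLpull g] (w : g ≫ i = k ≫ f) (K : DCoh.D X) :
    Nonempty ((DPerf.resD k).obj ((DCoh.Lpull f).obj K) ≅ (DCoh.Lpull g).obj ((DPerf.resD i).obj K)) := by
  haveI := KFlat.Sch.hasLpull k
  haveI := KFlat.Sch.hasLpull i
  haveI := KFlat.Sch.hasLpull (k ≫ f)
  haveI := KFlat.Sch.hasLpull (g ≫ i)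
  obtain ⟨e₁⟩ := DPerf.nonempty_lpull_iso_resD k ((DCoh.Lpull f).obj K)
  obtain ⟨e₂⟩ := DPerf.nonempty_lpull_iso_resD i K
  have e₃ : Nonempty ((DCoh.Lpull (k ≫ f)).obj K ≅ (DCoh.Lpull (g ≫ i)).obj K) := by
    revert ‹DCoh.HasLpull (k ≫ f)› ‹DCoh.HasLpull (g ≫ i)›
    rw [w]
    intro _ _
    exact ⟨Iso.refl _⟩
  exact ⟨e₁.symm ≪≫ (KFlat.Sch.lpullCompIso k f).app K ≪≫ e₃.some ≪≫ ((KFlat.Sch.lpullCompIso g i).app K).symm ≪≫
    (DCoh.Lpull g).mapIso e₂⟩

/-- Affine charts of a morphism. -/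
theorem exists_chart (f : Y ⟶ X) (y : Y) : ∃ (A B : CommRingCat.{u}) (φ : A ⟶ B) (i : Spec A ⟶ X)
    (_ : IsOpenImmersion i) (k : Spec B ⟶ Y) (_ : IsOpenImmersion k),
    y ∈ Set.range k ∧ Spec.map φ ≫ i = k ≫ f := by
  obtain ⟨V, hV, hyV, -⟩ := TopologicalSpace.Opens.isBasis_iff_nbhd.1 X.isBasis_affineOpens
    (TopologicalSpace.Opens.mem_top (f y))
  obtain ⟨W, hW, hyW, hWV⟩ := TopologicalSpace.Opens.isBasis_iff_nbhd.1 Y.isBasis_affineOpens
    (show y ∈ f ⁻¹ᵁ V from hyV)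
  refine ⟨_, _, f.appLE V W hWV, hV.fromSpec, inferInstance, hW.fromSpec, inferInstance, ?_,
    hV.SpecMap_appLE_fromSpec f hW hWV⟩
  rw [hW.range_fromSpec]
  exact hyW

/-- Derived pullback preserves quasi-coherence of cohomology. -/
theorem isQCohD_lpull (f : Y ⟶ X) [DCoh.HasLpull f] {K : DCoh.D X} (hK : DCoh.IsQCohD K) :
    DCoh.IsQCohD ((DCoh.Lpull f).obj K) := isQCohD_of_cover fun y => by
  obtain ⟨A, B, φ, i, _, k, _, hy, w⟩ := exists_chart f y
  haveI := KFlat.Sch.hasLpull (Spec.map φ)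
  obtain ⟨e⟩ := nonempty_chart_iso f i k (Spec.map φ) w K
  obtain ⟨M, ⟨eM⟩⟩ := exists_iso_of_isQCohD _ (isQCohD_resD i hK)
  obtain ⟨N, ⟨eN⟩⟩ := exists_lpull_tilde_iso φ M
  exact ⟨_, k, inferInstance, hy, isQCohD_of_iso (eN ≪≫ (DCoh.Lpull (Spec.map φ)).mapIso eM ≪≫ e.symm)
    (isQCohD_obj N)⟩

end Groth.Agent.DQC
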