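import Groth.Agent.Lib.DQC.Pull
import Groth.Agent.Lib.DQC.Tensor
import Groth.Agent.Lib.DPerf.Tilde
import Groth.Agent.Lib.KFlat.LTor
import Groth.Agent.Lib.KFlat.FlatCoker
import Groth.Agent.Lib.DMod.Amplitude
import Groth.Agent.Lib.DMod.TruncGE
import Groth.Agent.Lib.TensorMod.Tilde
import Groth.Agent.Lib.ModM1.Push

/-! Tor amplitude is detected by quasi-coherent test modules. -/

set_option autoImplicit false
set_option linter.style.haveILetI false
set_option linter.unusedSectionVars false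
set_option backward.isDefEq.respectTransparency false
set_option backward.isDefEq.respectTransparency.types false

universe u

open CategoryTheory CategoryTheory.Limits AlgebraicGeometry MonoidalCategory
open scoped TensorProduct

namespace Groth.Agent.DQC

attribute [local instance] HasDerivedCategory.standard

section Module

variable {R : CommRingCat.{u}}

/-- Flatness of the cokernel of a map into a flat module, from exactness after tensoring. -/
theorem flat_cokernel_of_exact (P : DRing.Cx R) (a : ℤ) (hflat : Module.Flat R (P.X a))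
    (h : ∀ N : ModuleCat.{u} R,
      ((((KFlat.Module.TM R).flip.obj N).mapHomologicalComplex (ComplexShape.up ℤ)).obj P).ExactAt (a - 1)) :
    Module.Flat R (cokernel (P.d (a - 1) a) : ModuleCat.{u} R) := by
  have hX := (KFlat.Module.isFlat_iff (P.X a)).2 hflat
  have hpm : ((KFlat.Module.TM R).obj (cokernel (P.d (a - 1) a))).PreservesMonomorphisms :=
    KFlat.preservesMonomorphisms_cokernel (T := KFlat.Module.TM R) (P.sc' (a - 1 - 1) (a - 1) a) hX.left
      fun N => by
        have := h N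
        rw [HomologicalComplex.exactAt_iff' _ (a - 1 - 1) (a - 1) a (by simp) (by simp)] at this
        exact this
  refine Module.Flat.iff_lTensor_preserves_injective_linearMap.2 fun N N' _ _ _ _ f hf => ?_
  haveI : Mono (ModuleCat.ofHom f) := (ModuleCat.mono_iff_injective _).2 hf
  exact (ModuleCat.mono_iff_injective ((cokernel (P.d (a - 1) a) : ModuleCat.{u} R) ◁ ModuleCat.ofHom f)).1
    (inferInstanceAs (Mono (((KFlat.Module.TM R).obj (cokernel (P.d (a - 1) a))).map (ModuleCat.ofHom f))))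

/-- Tensoring with `R` changes nothing. -/
noncomputable def tensorUnitNatIso : (KFlat.Module.TM R).flip.obj (𝟙_ (ModuleCat.{u} R)) ≅ 𝟭 (ModuleCat.{u} R) :=
  NatIso.ofComponents (fun M => ρ_ M) fun f => rightUnitor_naturality f

theorem exactAt_of_tensor_unit (P : DRing.Cx R) (i : ℤ)
    (h : ((((KFlat.Module.TM R).flip.obj (𝟙_ (ModuleCat.{u} R))).mapHomologicalComplex (ComplexShape.up ℤ)).obj P).ExactAt i) :
    P.ExactAt i := by
  rw [HomologicalComplex.exactAt_iff] at h ⊢
  exact (ShortComplex.exact_iff_of_iso ((P.sc i).mapNatIso tensorUnitNatIso)).1 h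

/-- A complex of flat modules, bounded above, with tensor vanishing below `a`, has tor amplitude `[a, b]`. -/
theorem amplitude_of_tensor_exact (P : DRing.Cx R) (a b : ℤ) [P.IsStrictlyLE b]
    (hflat : ∀ i, Module.Flat R (P.X i))
    (h : ∀ (N : ModuleCat.{u} R) (i : ℤ), i < a →
      ((((KFlat.Module.TM R).flip.obj N).mapHomologicalComplex (ComplexShape.up ℤ)).obj P).ExactAt i) :
    DRing.HasTorAmplitudeIn R a b (DRing.toD P) := by
  haveI : P.IsGE a := (CochainComplex.isGE_iff P a).2 fun i hi => exactAt_of_tensor_unit P i (h _ i hi)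
  haveI : (DRing.toD P).IsGE a := inferInstanceAs ((DerivedCategory.Q.obj P).IsGE a)
  obtain ⟨e'⟩ := DMod.exists_truncFrom_iso P a
  refine ⟨_, DMod.vanishesOutside_truncFrom P a b,
    DMod.truncFrom_mem DMod.modClass_flat P a (fun i _ => hflat i) ?_, ⟨e'⟩⟩
  haveI := flat_cokernel_of_exact P a (hflat a) fun N => h N _ (by omega)
  exact Module.Flat.of_linearEquiv ((DMod.truncFromBotEquiv P a).symm.trans
    (ModuleCat.cokernelIsoRangeQuotient (P.d (a - 1) a)).symm.toLinearEquiv)

end Module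

section Tilde

variable {R : CommRingCat.{u}}

theorem tildeTensorHom_natural (N : ModuleCat.{u} R) {M M' : ModuleCat.{u} R} (f : M ⟶ M') :
    (tilde.functor R).map (f ▷ N) ≫ M2.tildeTensorHom M' N =
      M2.tildeTensorHom M N ≫ M2.tensorMap ((tilde.functor R).map f) (𝟙 (tilde N)) := by
  apply ((tilde.adjunction (R := R)).homEquiv _ _).injective
  rw [Adjunction.homEquiv_naturality_left, Adjunction.homEquiv_naturality_right]
  simp only [M2.tildeTensorHom]
  erw [Equiv.apply_symm_apply, Equiv.apply_symm_apply]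
  refine ModuleCat.hom_ext (TensorProduct.ext' fun m n => ?_)
  change M2.tsec _ _ (M2.gsec M' (f m)) (M2.gsec N n) =
    (M2.tensorMap ((tilde.functor R).map f) (𝟙 (tilde N))).app ⊤ (M2.tsec _ _ (M2.gsec M m) (M2.gsec N n))
  rw [M2.tensorMap_tsec]
  refine congrArg₂ (M2.tsec _ _) ?_ rfl
  exact (congr($((tilde.adjunction (R := R)).unit.naturality f) m))

/-- `tilde` commutes with tensoring by a module. -/
noncomputable def tildeTensorRightIso (N : ModuleCat.{u} R) :
    (KFlat.Module.TM R).flip.obj N ⋙ tilde.functor R ≅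
      tilde.functor R ⋙ DCoh.tensorRightMod (tilde N) :=
  NatIso.ofComponents (fun M => M2.tildeTensorIso M N) fun {M M'} f => by
    refine (tildeTensorHom_natural N f).trans (congrArg (M2.tildeTensorHom M N ≫ ·) ?_)
    simp only [M2.tensorMap, CategoryTheory.Functor.map_id, MonoidalCategory.tensorHom_id]
    rfl

theorem exactAt_of_tilde_tensor (N : ModuleCat.{u} R) (P : DRing.Cx R) (i : ℤ)
    [PreservesFiniteLimits (tilde.functor R)]
    (h : (((DCoh.tensorRightMod (tilde N)).mapHomologicalComplex (ComplexShape.up ℤ)).obj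
      ((DPerf.tildeX R).obj P)).ExactAt i) :
    ((((KFlat.Module.TM R).flip.obj N).mapHomologicalComplex (ComplexShape.up ℤ)).obj P).ExactAt i := by
  rw [HomologicalComplex.exactAt_iff] at h ⊢
  have h' : (((P.sc i).map ((KFlat.Module.TM R).flip.obj N)).map (tilde.functor R)).Exact :=
    (ShortComplex.exact_iff_of_iso ((P.sc i).mapNatIso (tildeTensorRightIso N))).2 h
  exact (ShortComplex.exact_map_iff_of_faithful _ (tilde.functor R)).1 h'

end Tilde

section Sheaf

variable {X : Scheme.{u}}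

/-- A K-flat resolution by modules gives an adapted tilde. -/
theorem isAdapted_tilde_resObj {R : CommRingCat.{u}} (G : DRing.Cx R) :
    KFlat.Sch.IsAdapted ((DPerf.tildeX R).obj (KFlat.resObj (KFlat.Module.cover (R := R)) G)) := by
  have h := KFlat.Sch.isKFlat_tilde R (KFlat.isKFlat_resObj (KFlat.Module.cover (R := R)) G KFlat.Module.isFlat_cover)
  refine ⟨h, (KFlat.Sch.isKFlat_flip_iff' _).2 h, fun n => (KFlat.Sch.isFlat_iff _).2 ?_⟩
  haveI := (KFlat.Module.isFlat_iff _).1
    (KFlat.isFlat_resObj_X (KFlat.Module.cover (R := R)) G KFlat.Module.isFlat_cover n)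
  exact DPerf.isFlat_tilde

/-- Over an affine scheme, test modules detect tor amplitude. -/
theorem flatAmplitude_of_tests {R : CommRingCat.{u}} (L : CochainComplex (Spec R).Modules ℤ)
    (hL : KFlat.Sch.IsAdapted L) (hq : DCoh.IsQCohD (DCoh.toD _ L)) (a b : ℤ)
    (h : ∀ (N : ModuleCat.{u} R) (i : ℤ), i < a ∨ b < i →
      (((DCoh.tensorRightMod (tilde N)).mapHomologicalComplex (ComplexShape.up ℤ)).obj L).ExactAt i) :
    DCoh.HasFlatAmplitudeIn a b (DCoh.toD _ L) := by
  obtain ⟨M, ⟨e⟩⟩ := exists_iso_of_isQCohD _ hq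
  have htr : ∀ (P : DRing.Cx R), KFlat.Sch.IsAdapted ((DPerf.tildeX R).obj P) → (DRing.toD P ≅ M) →
      ∀ (N : ModuleCat.{u} R) (i : ℤ), i < a ∨ b < i →
        ((((KFlat.Module.TM R).flip.obj N).mapHomologicalComplex (ComplexShape.up ℤ)).obj P).ExactAt i := by
    intro P hP eP N i hi
    have := KFlat.Sch.hasLTensorMod (tilde N)
    exact exactAt_of_tilde_tensor N P i
      ((KFlat.Sch.isZero_HD_lTensorMod_iff (tilde N) _ hP
        (((tilde.functor R).mapDerivedCategoryFactors.app P).symm ≪≫ (DPerf.tildeDD R).mapIso eP ≪≫ e) i).1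
        ((KFlat.Sch.isZero_HD_lTensorMod_iff (tilde N) L hL (Iso.refl _) i).2 (h N i hi)))
  let G := (DerivedCategory.Q (C := ModuleCat.{u} R)).objPreimage M
  have := KFlat.quasiIso_resπ (KFlat.Module.cover (R := R)) G
  let e₀ : DRing.toD (KFlat.resObj (KFlat.Module.cover (R := R)) G) ≅ M :=
    asIso (DerivedCategory.Q.map (KFlat.resπ (KFlat.Module.cover (R := R)) G)) ≪≫
      (DerivedCategory.Q (C := ModuleCat.{u} R)).objObjPreimageIso M
  have hM : M.IsLE b := (DerivedCategory.isLE_iff M b).2 fun i hi =>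
    (exactAt_of_tensor_unit _ i (htr _ (isAdapted_tilde_resObj G) e₀ _ i (Or.inr hi))).isZero_homology.of_iso
      ((DerivedCategory.homologyFunctor _ i).mapIso e₀.symm ≪≫
        (DerivedCategory.homologyFunctorFactors _ i).app _)
  obtain ⟨P, hP, hPf, ⟨eP⟩⟩ := DMod.exists_free_resolution M b
  have hflat : ∀ i, Module.Flat R (P.X i) := fun i => have := hPf i; inferInstance
  have : ((DPerf.tildeX R).obj P).IsStrictlyLE b := (CochainComplex.isStrictlyLE_iff _ b).2 fun i hi =>
    (tilde.functor R).map_isZero (P.isZero_of_isStrictlyLE b i hi)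
  have hA : KFlat.Sch.IsAdapted ((DPerf.tildeX R).obj P) :=
    KFlat.Sch.isAdapted_of_boundedAbove _ b fun i =>
      (KFlat.Sch.isFlat_iff _).2 (have := hflat i; DPerf.isFlat_tilde (N := P.X i))
  obtain ⟨F, hF, hFf, ⟨eF⟩⟩ := (DPerf.tilde_flatAmplitude_iff M a b).2 (by
    obtain ⟨Q, hQ, hQf, ⟨eQ⟩⟩ := amplitude_of_tensor_exact P a b hflat
      fun N i hi => htr P hA eP N i (Or.inl hi)
    exact ⟨Q, hQ, hQf, ⟨eQ ≪≫ eP⟩⟩)
  exact ⟨F, hF, hFf, ⟨eF ≪≫ e⟩⟩

/-- Flat amplitude is local. -/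
theorem flatAmplitude_of_locally {E : DCoh.D X} {a b : ℤ}
    (h : ∀ x : X, ∃ V : X.Opens, x ∈ V ∧ DCoh.HasFlatAmplitudeIn a b ((DPerf.resD V.ι).obj E)) :
    DCoh.HasFlatAmplitudeIn a b E := by
  choose V hxV hamp using h
  have hz : ∀ i, i < a ∨ b < i → IsZero (DCoh.HD E i) := fun i hi =>
    DPerf.isZero_of_cover V (fun x => ⟨x, hxV x⟩) fun x =>
      (DPerf.isZero_HD_of_flatAmplitude (hamp x) hi).of_iso (DPerf.hdResIso (V x).ι E i).symm
  obtain ⟨K₀, ⟨e₀⟩⟩ := Functor.EssSurj.mem_essImage (F := (DerivedCategory.Q :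
    CochainComplex X.Modules ℤ ⥤ _)) E
  haveI : K₀.IsLE b := (CochainComplex.isLE_iff K₀ b).2 fun i hi =>
    (KFlat.Sch.isZero_HD_toD_iff K₀ i).1 ((KFlat.Sch.isZero_HD_iff_of_iso e₀ i).2 (hz i (Or.inr hi)))
  let K := KFlat.resObj (KFlat.Sch.cover X) (K₀.truncLE b)
  have hq := KFlat.quasiIso_resπ (KFlat.Sch.cover X) (K₀.truncLE b)
  have hKle := KFlat.resObj_isStrictlyLE (KFlat.Sch.cover X) (K₀.truncLE b) b
  let e : DCoh.toD X K ≅ E := asIso (DerivedCategory.Q.map (KFlat.resπ (KFlat.Sch.cover X) (K₀.truncLE b))) ≪≫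
    asIso (DerivedCategory.Q.map (K₀.ιTruncLE b)) ≪≫ e₀
  haveI : K.IsGE a := (CochainComplex.isGE_iff K a).2 fun i hi =>
    (KFlat.Sch.isZero_HD_toD_iff K i).1 ((KFlat.Sch.isZero_HD_iff_of_iso e i).2 (hz i (Or.inl hi)))
  have hflat : ∀ n, KFlat.IsFlat (KFlat.Sch.TX X) (K.X n) := (KFlat.Sch.isAdapted_resObj _).2.2
  have hcok : FlatMod.IsFlat (cokernel (K.d (a - 1) a)) := DPerf.isFlat_of_locally fun x => ⟨V x, hxV x, by
    have : ((DPerf.resX (V x).ι).obj K).IsStrictlyLE b := (CochainComplex.isStrictlyLE_iff _ b).2 fun i hi =>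
      (Scheme.Modules.restrictFunctor (V x).ι).map_isZero (K.isZero_of_isStrictlyLE b i hi)
    have hK := DPerf.isFlat_cokernel_of_amplitude ((DPerf.resX (V x).ι).obj K) b
      (fun i => DPerf.isFlat_res _ ((KFlat.Sch.isFlat_iff _).1 (hflat i))) (le_refl a) (by
        obtain ⟨F, hF, hfl, ⟨eF⟩⟩ := hamp x
        exact ⟨F, hF, hfl, ⟨eF ≪≫ (DPerf.resD (V x).ι).mapIso e.symm ≪≫ (DPerf.resFac (V x).ι).app K⟩⟩)
    exact (KFlat.Sch.isFlat_iff _).1 (((KFlat.Sch.isFlat_iff _).2 hK).of_iso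
      (PreservesCokernel.iso (Scheme.Modules.restrictFunctor (V x).ι) (K.d (a - 1) a)))⟩
  refine ⟨K.truncGE a, fun i hi => ?_, fun i => ?_,
    ⟨(asIso (DerivedCategory.Q.map (K.πTruncGE a))).symm ≪≫ e⟩⟩
  · rcases hi with hi | hi
    · exact (K.truncGE a).isZero_of_isStrictlyGE a i hi
    · by_cases ha : a < i
      · exact (K.isZero_of_isStrictlyLE b i hi).of_iso (CochainComplex.truncGEXIso K a i ha)
      · rcases lt_or_eq_of_le (not_lt.1 ha) with ha | ha
        · exact (K.truncGE a).isZero_of_isStrictlyGE a i ha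
        · subst ha
          haveI : Epi (K.pOpcycles i) := inferInstance
          exact ((IsZero.iff_id_eq_zero _).2 ((cancel_epi (K.pOpcycles i)).1
            ((K.isZero_of_isStrictlyLE b i hi).eq_of_src _ _))).of_iso (CochainComplex.truncGEXIsoOpcycles K i)
  · refine (KFlat.Sch.isFlat_iff _).1 ?_
    rcases lt_trichotomy i a with hi | hi | hi
    · exact KFlat.isFlat_of_isZero ((K.truncGE a).isZero_of_isStrictlyGE a i hi)
    · subst hi
      exact ((KFlat.Sch.isFlat_iff _).2 hcok).of_iso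
        (CochainComplex.truncGEXIsoOpcycles K i ≪≫
          (K.opcyclesIsCokernel (i - 1) i (by simp)).coconePointUniqueUpToIso (colimit.isColimit _))
    · exact (hflat i).of_iso (CochainComplex.truncGEXIso K a i hi)

/-- Pullback along an open immersion commutes with tensoring by a module. -/
noncomputable def tensorRightPullIso {Y : Scheme.{u}} (f : Y ⟶ X) (F : X.Modules) :
    DCoh.tensorRightMod F ⋙ Scheme.Modules.pullback f ≅
      Scheme.Modules.pullback f ⋙ DCoh.tensorRightMod ((Scheme.Modules.pullback f).obj F) :=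
  Functor.isoWhiskerRight (KFlat.Sch.tensorRightModIso F).symm _ ≪≫
    (NatIso.ofComponents (F := (KFlat.Sch.TX X).flip.obj F ⋙ Scheme.Modules.pullback f)
      (G := Scheme.Modules.pullback f ⋙ (KFlat.Sch.TX Y).flip.obj ((Scheme.Modules.pullback f).obj F))
      (fun M => KFlat.Sch.pullTensorIso₂ f M F)
      (fun {M M'} g => (KFlat.Sch.natural_pullTensorIso₂ f).left g F)) ≪≫
    Functor.isoWhiskerLeft _ (KFlat.Sch.tensorRightModIso _)

/-- Tor amplitude is detected by quasi-coherent test modules. -/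
theorem flatAmplitude_of_qcoh_tests [QuasiSeparatedSpace X] {E : DCoh.D X} (hE : DCoh.IsQCohD E) (a b : ℤ)
    (h : ∀ (F : X.Modules), Coh.IsQCoh F → ∀ [DCoh.HasLTensorMod F] (i : ℤ), (i < a ∨ b < i) →
      IsZero (DCoh.HD ((DCoh.LTensorMod F).obj E) i)) :
    DCoh.HasFlatAmplitudeIn a b E := by
  obtain ⟨K, hK, ⟨eK⟩⟩ := KFlat.Sch.exists_adapted_rep E
  refine flatAmplitude_of_locally fun x => ?_
  obtain ⟨V, hV, hxV, -⟩ := TopologicalSpace.Opens.isBasis_iff_nbhd.1 X.isBasis_affineOpens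
    (TopologicalSpace.Opens.mem_top x)
  refine ⟨V, hxV, ?_⟩
  let j := hV.fromSpec
  let Pj := Scheme.Modules.pullback j
  let L : CochainComplex (Spec Γ(X, V)).Modules ℤ := (Pj.mapHomologicalComplex (ComplexShape.up ℤ)).obj K
  have hL : KFlat.Sch.IsAdapted L := ⟨KFlat.Sch.isKFlat_pullback j hK.1,
    (KFlat.Sch.isKFlat_flip_iff' _).2 (KFlat.Sch.isKFlat_pullback j hK.1),
    fun n => KFlat.Sch.isFlat_pullback j (hK.2.2 n)⟩
  let eL : (DPerf.resD j).obj E ≅ DCoh.toD _ L := (DPerf.resD j).mapIso eK.symm ≪≫ resPullIso j K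
  obtain ⟨F₀, hF₀, hf₀, ⟨eF⟩⟩ := flatAmplitude_of_tests L hL (isQCohD_of_iso eL (isQCohD_resD j hE)) a b
    fun N i hi => by
      let F : X.Modules := (Scheme.Modules.pushforward j).obj (tilde N)
      have hF : Coh.IsQCoh F := M1.isQCoh_push j (inferInstanceAs (Coh.IsQCoh (tilde N)))
      haveI := KFlat.Sch.hasLTensorMod F
      have hex := (KFlat.Sch.isZero_HD_lTensorMod_iff F K hK eK i).1 (h F hF i hi)
      rw [HomologicalComplex.exactAt_iff] at hex ⊢
      haveI : PreservesFiniteLimits Pj :=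
        preservesFiniteLimits_of_natIso (Scheme.Modules.restrictFunctorIsoPullback j)
      have h1 : (((K.sc i).map Pj).map (DCoh.tensorRightMod (Pj.obj F))).Exact :=
        (ShortComplex.exact_iff_of_iso ((K.sc i).mapNatIso (tensorRightPullIso j F))).1 (hex.map Pj)
      let c : Pj.obj F ≅ tilde N := (Scheme.Modules.restrictFunctorIsoPullback j).symm.app F ≪≫
        (asIso (Scheme.Modules.restrictAdjunction j).counit).app (tilde N)
      let τ : DCoh.tensorRightMod (Pj.obj F) ≅ DCoh.tensorRightMod (tilde N) :=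
        (KFlat.Sch.tensorRightModIso _).symm ≪≫ ((KFlat.Sch.TX _).flip.mapIso c) ≪≫ KFlat.Sch.tensorRightModIso _
      exact (ShortComplex.exact_iff_of_iso (((K.sc i).map Pj).mapNatIso τ)).1 h1
  obtain ⟨F, hF, hf, ⟨e⟩⟩ := DPerf.flatAmplitude_res hV.isoSpec.hom
    (⟨F₀, hF₀, hf₀, ⟨eF ≪≫ eL.symm⟩⟩ : DCoh.HasFlatAmplitudeIn a b ((DPerf.resD j).obj E))
  refine ⟨F, hF, hf, ⟨e ≪≫ (DPerf.resDComp j hV.isoSpec.hom).app E ≪≫ ?_⟩⟩
  have key : ∀ {Z : Scheme.{u}} (g g' : Z ⟶ X) [IsOpenImmersion g] [IsOpenImmersion g'], g = g' →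
      Nonempty ((DPerf.resD g).obj E ≅ (DPerf.resD g').obj E) := by
    intro Z g g' _ _ hg; subst hg; exact ⟨Iso.refl _⟩
  exact (key _ _ hV.isoSpec_hom_fromSpec).some

end Sheaf

end Groth.Agent.DQC
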