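import Groth.Agent.Lib.SiteRlim16.Instances
import Groth.Agent.Lib.SiteRlim16.Trunc
import Groth.Agent.Lib.SiteRlim16.Covers
import Groth.Agent.Lib.SiteRlim16.Acyclic
import Groth.Agent.Lib.CohFound.QcohAffine
import Groth.Agent.Lib.CohFound.Bridge
import Groth.Agent.Lib.KInj.Derived
import Groth.Prelude.Def_DCoh2

/-! Classes of a complex with quasi-coherent cohomology over an affine open are sections of cohomology. -/

set_option autoImplicit false
set_option linter.style.haveILetI false
set_option linter.unusedSectionVars false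
set_option backward.isDefEq.respectTransparency false
set_option backward.isDefEq.respectTransparency.types false

universe u

open CategoryTheory CategoryTheory.Limits AlgebraicGeometry Opposite TopologicalSpace

namespace Groth.Agent.DQC

attribute [local instance] HasDerivedCategory.standard

variable (X : Scheme.{u})

/-- Modules on the Zariski site are modules. -/
noncomputable def toXMod : ModSite.Mod X.sheaf ⥤ X.Modules where
  obj M := M
  map f := f

/-- The modules `j_! O_U`. -/
noncomputable def gen : X.Opens ⥤ X.Modules := SiteRlim.genMod X.sheaf ⋙ toXMod X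

theorem localGen_gen : SiteRlim.LocalGen (Opens.grothendieckTopology X) (gen X) :=
  SiteRlim.localGen_genMod X.sheaf

variable {X}

/-- Maps out of `j_! O_U` are sections. -/
noncomputable def genHom (U : X.Opens) (M : X.Modules) : ((gen X).obj U ⟶ M) ≃ Γ(M, U) :=
  ModFlat16.freeOnHom X.sheaf U M

theorem genHom_comp (U : X.Opens) {M N : X.Modules} (h : (gen X).obj U ⟶ M) (f : M ⟶ N) :
    genHom U N (h ≫ f) = f.app U (genHom U M h) :=
  ModFlat16.freeOnHom_comp X.sheaf h f

/-- `Ext` out of `j_! O_U` into a quasi-coherent module vanishes for affine `U`. -/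
theorem subsingleton_ext_gen {U : X.Opens} (hU : IsAffineOpen U) (M : X.Modules) (hM : Coh.IsQCoh M)
    (k : ℕ) (hk : 1 ≤ k) : Subsingleton (Abelian.Ext.{u} ((gen X).obj U) M k) := by
  obtain ⟨q, rfl⟩ := Nat.exists_eq_add_of_le hk
  haveI : M.IsQuasicoherent := hM
  have h := CohFound.subsingleton_hc_isAffineOpen M hU q
  rw [show q + 1 = 1 + q by omega] at h
  exact SiteRlim.subsingleton_ext_freeOn X.sheaf U M (1 + q)
    ((CohFound.huExt ((CohFound.abF X).obj M) (1 + q) U).toEquiv.subsingleton_congr.2 h)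

theorem hasProduct_nat (E : ℕ → DCoh.D X) : HasProduct E := by
  choose I hI he using fun n => KInjLib.exists_iso_kInjective (E n)
  exact KInjLib.hasProduct_derivedCategory E I hI fun n => (he n).some

/-- An object with quasi-coherent cohomology is the derived limit of its truncations. -/
theorem isRlimVia_truncTower (E : DCoh.D X) (hE : DCoh.IsQCohD E) [HasProduct (CohCx.truncTower E)] :
    CohCx.IsRlimVia (CohCx.truncTower E) (CohCx.truncTowerMap E) E (CohCx.toTruncTower E) := by
  have hcov : ∀ U : X.Opens, ∃ (ι : Type u) (Y : ι → X.Opens) (g : ∀ i, Y i ⟶ U),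
      Sieve.ofArrows Y g ∈ Opens.grothendieckTopology X U ∧ ∀ i, IsAffineOpen (Y i) := by
    intro U
    refine ⟨{V : X.Opens // IsAffineOpen V ∧ V ≤ U}, fun V => V.1, fun V => homOfLE V.2.2, ?_, fun V => V.2.1⟩
    intro x hx
    obtain ⟨V, hV, hxV, hVU⟩ := TopologicalSpace.Opens.isBasis_iff_nbhd.1 X.isBasis_affineOpens hx
    exact ⟨V, homOfLE hVU, Sieve.ofArrows_mk (fun V : {V : X.Opens // IsAffineOpen V ∧ V ≤ U} => V.1)
      (fun V => homOfLE V.2.2) ⟨V, hV, hVU⟩, hxV⟩
  refine SiteRlim.isRlimVia_truncTower (localGen_gen X) E {V | IsAffineOpen V}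
    (SiteRlim.factor_of_cover _ hcov) fun m V _ => ⟨(-m).toNat, fun T hT => ?_⟩
  refine SiteRlim.factor_of_cofinal (Q := fun Y => SiteRlim.Stable (CohCx.truncTower E) (CohCx.truncTowerMap E)
    m (-m).toNat ((gen X).obj Y)) (fun T hT => ?_) T hT
  refine ⟨{W : X.Opens // IsAffineOpen W ∧ ∃ h : W ≤ V, T (homOfLE h)}, fun W => W.1,
    fun W => homOfLE W.2.2.1, fun W => W.2.2.2, ?_, fun W =>
      SiteRlim.stable_truncTower E m _ fun n hn k _ _ => subsingleton_ext_gen W.2.1 _ (hE _) k (by omega)⟩
  intro x hx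
  obtain ⟨W', g, hg, hxW'⟩ := hT x hx
  obtain ⟨W, hW, hxW, hWW'⟩ := TopologicalSpace.Opens.isBasis_iff_nbhd.1 X.isBasis_affineOpens hxW'
  have hT' : T (homOfLE (hWW'.trans (leOfHom g))) := by
    convert T.downward_closed hg (homOfLE hWW') using 1; exact Subsingleton.elim _ _
  exact ⟨W, homOfLE (hWW'.trans (leOfHom g)),
    Sieve.ofArrows_mk (fun W : {W : X.Opens // IsAffineOpen W ∧ ∃ h : W ≤ V, T (homOfLE h)} => W.1)
      (fun W => homOfLE W.2.2.1) ⟨W, hW, hWW'.trans (leOfHom g), hT'⟩, hxW⟩

/-- Classes on an affine open are sections of cohomology. -/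
theorem bijective_θ (E : DCoh.D X) (hE : DCoh.IsQCohD E) {U : X.Opens} (hU : IsAffineOpen U) (m : ℤ) :
    Function.Bijective (SiteRlim.θ :
      ((DerivedCategory.singleFunctor X.Modules m).obj ((gen X).obj U) ⟶ E) → _) := by
  haveI := hasProduct_nat (CohCx.truncTower E)
  exact SiteRlim.bijective_θ_of_isRlimVia _ m E (isRlimVia_truncTower E hE)
    fun k q hk => subsingleton_ext_gen hU _ (hE q) k hk

end Groth.Agent.DQC
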